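import Mathlib

/-!
Morphisms of finite flat schemes determined on an open containing the associated points.
-/

set_option autoImplicit false

universe u

open CategoryTheory AlgebraicGeometry TopologicalSpace

namespace Groth.Agent.FinFlatExt

theorem eq_zero_of_local {A B : Type*} [CommRing A] [IsNoetherianRing A] [CommRing B] [Algebra A B]
    [Module.Finite A B] [Module.Flat A B] (d : B)
    (h : ∀ P ∈ associatedPrimes A A, ∃ g ∉ P, g • d = 0) : d = 0 := by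
  haveI := Module.finitePresentation_of_finite A B
  haveI : Module.Projective A B := Module.Flat.projective_of_finitePresentation
  refine (Module.forall_dual_apply_eq_zero_iff A d).1 fun φ => ?_
  by_contra hne
  obtain ⟨P, hP, hle⟩ := exists_le_isAssociatedPrime_of_isNoetherianRing A (φ d) hne
  obtain ⟨g, hg, hgd⟩ := h P hP
  refine hg (hle ?_)
  rw [Submodule.mem_colon_singleton, Submodule.mem_bot, ← map_smul, hgd, map_zero]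

theorem appLE_eq_of_ι_comp_eq {X Y : Scheme.{u}} {φ ψ : X ⟶ Y} {W : X.Opens} (U' : Y.Opens)
    (h : W.ι ≫ φ = W.ι ≫ ψ) (e : W ≤ φ ⁻¹ᵁ U') (e' : W ≤ ψ ⁻¹ᵁ U') :
    φ.appLE U' W e = ψ.appLE U' W e' := by
  have : φ.resLE U' W e = ψ.resLE U' W e' := by
    rw [← cancel_mono U'.ι, Scheme.Hom.resLE_comp_ι, Scheme.Hom.resLE_comp_ι, h]
  have h2 := congrArg (fun m => m.appTop) this
  simp only [Scheme.Hom.appTop, Scheme.Hom.resLE_app_top] at h2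
  rwa [cancel_epi, cancel_mono] at h2

theorem mem_associatedPrimes_stalk {S : Scheme.{u}} {V : S.Opens} (hV : IsAffineOpen V)
    [IsNoetherianRing Γ(S, V)] (P : Ideal Γ(S, V)) (hP : P ∈ associatedPrimes Γ(S, V) Γ(S, V)) :
    ∃ (s : S) (hs : s ∈ V), (hV.primeIdealOf ⟨s, hs⟩).asIdeal = P ∧
      IsLocalRing.maximalIdeal (S.presheaf.stalk s) ∈
        associatedPrimes (S.presheaf.stalk s) (S.presheaf.stalk s) := by
  haveI hPp : P.IsPrime := IsAssociatedPrime.isPrime hP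
  set q : PrimeSpectrum Γ(S, V) := ⟨P, hPp⟩
  have hs : hV.fromSpec q ∈ V := by
    rw [← SetLike.mem_coe, ← hV.range_fromSpec]
    exact ⟨q, rfl⟩
  have hq : hV.primeIdealOf ⟨hV.fromSpec q, hs⟩ = q :=
    hV.fromSpec.isOpenEmbedding.injective (hV.fromSpec_primeIdealOf _)
  refine ⟨hV.fromSpec q, hs, by rw [hq], ?_⟩
  letI := (S.presheaf.germ V (hV.fromSpec q) hs).hom.toAlgebra
  haveI hloc : IsLocalization.AtPrime (S.presheaf.stalk (hV.fromSpec q))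
      (hV.primeIdealOf ⟨hV.fromSpec q, hs⟩).asIdeal := hV.isLocalization_stalk ⟨hV.fromSpec q, hs⟩
  refine Module.associatedPrimes.mem_associatedPrimes_of_comap_mem_associatedPrimes_of_isLocalizedModule
    (hV.primeIdealOf ⟨hV.fromSpec q, hs⟩).asIdeal.primeCompl (Algebra.linearMap _ _) _ ?_
  rw [← Ideal.under_def, IsLocalization.AtPrime.under_maximalIdeal (S.presheaf.stalk (hV.fromSpec q))
    (hV.primeIdealOf ⟨hV.fromSpec q, hs⟩).asIdeal, hq]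
  exact hP

theorem appLE_eq_of_restrict_eq {S G₁ G₂ : Scheme.{u}} [IsLocallyNoetherian S] (f₁ : G₁ ⟶ S) (f₂ : G₂ ⟶ S)
    [IsFinite f₁] [Flat f₁] {φ ψ : G₁ ⟶ G₂} (hφ : φ ≫ f₂ = f₁) (hψ : ψ ≫ f₂ = f₁) {U : S.Opens}
    (hU : ∀ s : S, IsLocalRing.maximalIdeal (S.presheaf.stalk s) ∈
        associatedPrimes (S.presheaf.stalk s) (S.presheaf.stalk s) → s ∈ U)
    (h : (f₁ ⁻¹ᵁ U).ι ≫ φ = (f₁ ⁻¹ᵁ U).ι ≫ ψ) {V : S.Opens} (hV : IsAffineOpen V) :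
    φ.appLE (f₂ ⁻¹ᵁ V) (f₁ ⁻¹ᵁ V) (by rw [← hφ]; rfl) =
      ψ.appLE (f₂ ⁻¹ᵁ V) (f₁ ⁻¹ᵁ V) (by rw [← hψ]; rfl) := by
  ext b
  rw [← sub_eq_zero]
  set d := φ.appLE (f₂ ⁻¹ᵁ V) (f₁ ⁻¹ᵁ V) (by rw [← hφ]; rfl) b -
    ψ.appLE (f₂ ⁻¹ᵁ V) (f₁ ⁻¹ᵁ V) (by rw [← hψ]; rfl) b with hd
  haveI := IsLocallyNoetherian.component_noetherian (X := S) ⟨V, hV⟩
  letI := (f₁.app V).hom.toAlgebra
  haveI : Module.Finite Γ(S, V) Γ(G₁, f₁ ⁻¹ᵁ V) := IsFinite.finite_app f₁ V hV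
  haveI : Module.Flat Γ(S, V) Γ(G₁, f₁ ⁻¹ᵁ V) := by
    have := f₁.flat_appLE hV (hV.preimage f₁) le_rfl
    rw [← Scheme.Hom.app_eq_appLE] at this
    exact this
  refine eq_zero_of_local (A := Γ(S, V)) d fun P hP => ?_
  obtain ⟨s, hs, hsP, hass⟩ := mem_associatedPrimes_stalk hV P hP
  obtain ⟨g, hg, hsg⟩ := hV.exists_basicOpen_le (V := U ⊓ V) ⟨s, ⟨hU s hass, hs⟩⟩ hs
  have hgP : g ∉ P := by
    rw [← hsP]
    intro hmem
    have h1 : hV.primeIdealOf ⟨s, hs⟩ ∈ hV.fromSpec ⁻¹ᵁ S.basicOpen g := by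
      show hV.fromSpec _ ∈ S.basicOpen g
      rw [hV.fromSpec_primeIdealOf]
      exact hsg
    rw [hV.fromSpec_preimage_basicOpen] at h1
    exact h1 hmem
  have hW : f₁ ⁻¹ᵁ S.basicOpen g = G₁.basicOpen (f₁.app V g) := Scheme.preimage_basicOpen f₁ g
  have hres : G₁.presheaf.map (homOfLE (G₁.basicOpen_le (f₁.app V g))).op d = 0 := by
    rw [hd, map_sub, sub_eq_zero]
    have hle : G₁.basicOpen (f₁.app V g) ≤ f₁ ⁻¹ᵁ U := hW ▸ f₁.preimage_mono (hg.trans inf_le_left)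
    have h' : (G₁.basicOpen (f₁.app V g)).ι ≫ φ = (G₁.basicOpen (f₁.app V g)).ι ≫ ψ := by
      rw [← G₁.homOfLE_ι hle, Category.assoc, Category.assoc, h]
    have key := congrArg (fun m => m b)
      (appLE_eq_of_ι_comp_eq (f₂ ⁻¹ᵁ V) h' (((G₁.basicOpen_le _).trans (by rw [← hφ]; rfl)))
        (((G₁.basicOpen_le _).trans (by rw [← hψ]; rfl))))
    rw [← CommRingCat.comp_apply, ← CommRingCat.comp_apply, Scheme.Hom.appLE_map, Scheme.Hom.appLE_map]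
    exact key
  haveI := (hV.preimage f₁).isLocalization_basicOpen (f₁.app V g)
  obtain ⟨⟨_, N, rfl⟩, hN⟩ := (IsLocalization.map_eq_zero_iff (Submonoid.powers (f₁.app V g))
    Γ(G₁, G₁.basicOpen (f₁.app V g)) d).1 hres
  refine ⟨g ^ N, fun hgN => hgP ((IsAssociatedPrime.isPrime hP).mem_of_pow_mem N hgN), ?_⟩
  rw [Algebra.smul_def, RingHom.algebraMap_toAlgebra, map_pow]
  exact hN

theorem hom_eq_of_restrict_eq {S G₁ G₂ : Scheme.{u}} [IsLocallyNoetherian S] (f₁ : G₁ ⟶ S) (f₂ : G₂ ⟶ S)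
    [IsFinite f₁] [Flat f₁] [IsAffineHom f₂] {φ ψ : G₁ ⟶ G₂} (hφ : φ ≫ f₂ = f₁) (hψ : ψ ≫ f₂ = f₁)
    {U : S.Opens}
    (hU : ∀ s : S, IsLocalRing.maximalIdeal (S.presheaf.stalk s) ∈
        associatedPrimes (S.presheaf.stalk s) (S.presheaf.stalk s) → s ∈ U)
    (h : (f₁ ⁻¹ᵁ U).ι ≫ φ = (f₁ ⁻¹ᵁ U).ι ≫ ψ) : φ = ψ := by
  refine (G₁.openCoverOfIsOpenCover (fun V : S.affineOpens => f₁ ⁻¹ᵁ (V : S.Opens)) ?_).hom_ext _ _ fun V => ?_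
  · refine IsOpenCover.comap ?_ f₁.base.hom
    exact S.isBasis_affineOpens.isOpenCover
  · obtain ⟨V, hV⟩ := V
    show (f₁ ⁻¹ᵁ V).ι ≫ φ = (f₁ ⁻¹ᵁ V).ι ≫ ψ
    have eφ : f₁ ⁻¹ᵁ V ≤ φ ⁻¹ᵁ (f₂ ⁻¹ᵁ V) := by rw [← hφ]; rfl
    have eψ : f₁ ⁻¹ᵁ V ≤ ψ ⁻¹ᵁ (f₂ ⁻¹ᵁ V) := by rw [← hψ]; rfl
    rw [← Scheme.Hom.resLE_comp_ι φ eφ, ← Scheme.Hom.resLE_comp_ι ψ eψ]
    congr 1
    haveI : IsAffine (f₂ ⁻¹ᵁ V : G₂.Opens).toScheme := hV.preimage f₂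
    refine ext_of_isAffine ?_
    show (φ.resLE _ _ eφ).app ⊤ = (ψ.resLE _ _ eψ).app ⊤
    rw [Scheme.Hom.resLE_app_top, Scheme.Hom.resLE_app_top,
      appLE_eq_of_restrict_eq f₁ f₂ hφ hψ hU h hV]

end Groth.Agent.FinFlatExt
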